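import Mathlib
import Groth.Agent.S7126
import Groth.Agent.H71.QCoh.FlatOver
import Groth.Agent.H8.QCohStalk

/-!
# Flat diagonal: modules flat over the base are flat (helper70; for S7177)
-/

set_option autoImplicit false
set_option linter.style.haveILetI false
universe u

open AlgebraicGeometry CategoryTheory CategoryTheory.Limits TopologicalSpace TensorProduct

namespace Groth.Agent.H70.FlatDiag

/-- cancelling a monomorphism on the right does not change flatness of the diagonal. -/
theorem flat_diagonal_of_comp_mono {A B C : Scheme.{u}} (g : A ⟶ B) (h : B ⟶ C) [Mono h]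
    (hgh : Flat (pullback.diagonal (g ≫ h))) : Flat (pullback.diagonal g) := by
  have h1 := pullback.diagonal_comp g h
  haveI : IsIso ((pullbackDiagonalMapIdIso g g h).inv ≫ pullback.snd _ _) := inferInstance
  rw [← MorphismProperty.cancel_right_of_respectsIso @Flat (pullback.diagonal g)
    ((pullbackDiagonalMapIdIso g g h).inv ≫ pullback.snd _ _), ← h1]
  exact hgh

/-- precomposing with an open immersion keeps the diagonal flat. -/
theorem flat_diagonal_openImmersion_comp {A X Y : Scheme.{u}} (j : A ⟶ X) [IsOpenImmersion j]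
    (f : X ⟶ Y) (hf : Flat (pullback.diagonal f)) : Flat (pullback.diagonal (j ≫ f)) := by
  have hj : MorphismProperty.diagonal @Flat j := (inferInstance : Flat (pullback.diagonal j))
  exact (inferInstance :
    (MorphismProperty.diagonal @Flat).IsStableUnderComposition).comp_mem j f hj hf

variable {X Y : Scheme.{u}} (f : X ⟶ Y)

/-- if the diagonal of `f` is flat, the multiplication maps of the rings of sections over affine
pairs are flat. -/
theorem lmul_flat (hf : Flat (pullback.diagonal f)) {U : X.Opens} {V : Y.Opens}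
    (hU : IsAffineOpen U) (hV : IsAffineOpen V) (e : U ≤ f ⁻¹ᵁ V) :
    letI : Algebra Γ(Y, V) Γ(X, U) := (f.appLE V U e).hom.toAlgebra
    (Algebra.TensorProduct.lmul' Γ(Y, V) (S := Γ(X, U))).Flat := by
  letI : Algebra Γ(Y, V) Γ(X, U) := (f.appLE V U e).hom.toAlgebra
  have h1 : Flat (pullback.diagonal (hU.fromSpec ≫ f)) :=
    flat_diagonal_openImmersion_comp hU.fromSpec f hf
  have h2 : hU.fromSpec ≫ f = Spec.map (f.appLE V U e) ≫ hV.fromSpec :=
    (IsAffineOpen.SpecMap_appLE_fromSpec f hV hU e).symm
  rw [h2] at h1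
  have h3 : Flat (pullback.diagonal (Spec.map (f.appLE V U e))) :=
    flat_diagonal_of_comp_mono _ hV.fromSpec h1
  have h4 : Spec.map (f.appLE V U e) =
      Spec.map (CommRingCat.ofHom (algebraMap Γ(Y, V) Γ(X, U))) := rfl
  rw [h4, diagonal_SpecMap, MorphismProperty.cancel_right_of_respectsIso @Flat] at h3
  exact (HasRingHomProperty.Spec_iff (P := @Flat)).mp h3

/-- **Flat diagonal**: a module flat over `Y` is flat over `X`. -/
theorem isFlat_of_isFlatOver (hf : Flat (pullback.diagonal f)) (F : X.Modules)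
    (hF : FlatMod.IsFlatOver f F) : FlatMod.IsFlat F := by
  intro x
  obtain ⟨U, V, hU, hV, hxU, e⟩ := Groth.Agent.H71.QCoh.exists_affine_pair f x
  letI : Algebra Γ(Y, V) Γ(X, U) := (f.appLE V U e).hom.toAlgebra
  letI := Groth.Agent.H71.QCoh.baseModuleStalk f F (e hxU)
  letI := Groth.Agent.H8.stalkModule F hxU
  haveI : IsScalarTower Γ(Y, V) Γ(X, U) (F.presheaf.stalk x) :=
    IsScalarTower.of_algebraMap_smul (fun r m => by
      change (X.presheaf.germ U x hxU).hom ((f.appLE V U e).hom r) • m =
        (f.stalkMap x).hom ((Y.presheaf.germ V (f x) (e hxU)).hom r) • m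
      rw [Groth.Agent.H71.QCoh.stalkMap_germ_eq_germ_appLE f e hxU r])
  haveI : Module.Flat Γ(Y, V) (F.presheaf.stalk x) :=
    (Groth.Agent.H71.QCoh.isFlatOverAt_iff_flat_base f F hV (e hxU)).mp (hF x)
  have h := Groth.Agent.S7126.result Γ(Y, V) Γ(X, U) (lmul_flat f hf hU hV e) (F.presheaf.stalk x)
  letI : Algebra Γ(X, U) (X.presheaf.stalk x) :=
    TopCat.Presheaf.algebra_section_stalk X.presheaf ⟨x, hxU⟩
  haveI : IsScalarTower Γ(X, U) (X.presheaf.stalk x) (F.presheaf.stalk x) :=
    IsScalarTower.of_algebraMap_smul (fun r m => rfl)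
  haveI := hU.isLocalization_stalk ⟨x, hxU⟩
  exact (Module.flat_iff_of_isLocalization (X.presheaf.stalk x)
    (hU.primeIdealOf ⟨x, hxU⟩).asIdeal.primeCompl (F.presheaf.stalk x)).mpr h

end Groth.Agent.H70.FlatDiag
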